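import Cfsg.Agent.H461.PStab.Final

/-!
# Normalizer `p`-stability for all odd `p`: core lemma, quotients, control of strong fusion (helper461, S3837)

The arguments of `H26/PStabCore`, `PStabTransfer`, `PStabFusion` (helper26, `p > 3`) with the lemma `final` of
`H461/PStab/Final` (all odd `p`).
-/

set_option autoImplicit false

namespace Cfsg.Agent.H461.PStab

open Subgroup Cfsg
open scoped commutatorElement
open Cfsg.Agent.PLocal
open Cfsg.Agent.PLocal.SL2Natural (mat mat_injective mat_mul mat_one)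
open Cfsg.Agent.PLocal.QuadraticSection (quotientAction quotientAction_mk)
open scoped Matrix
open Cfsg.Agent.H26.PStab (Quad NStab quad_of_mod odd_card_of_isPGroup exists_lift commutator_lt_self
  coprime_orderOf_card orderOf_conj' case_two case_three mem_centralizer_of_coprime)
open Cfsg.Agent.H26

section Core

variable {G : Type*} [Group G] [Finite G] {p : ℕ} [hpf : Fact p.Prime]

/-- **Core lemma.** -/
theorem core (hp2 : p ≠ 2) (hst : NStab p G) {R D : Subgroup G} (hR : IsPGroup p R) {a b : G}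
    (haR : a ∈ normalizer (R : Set G)) (hbR : b ∈ normalizer (R : Set G))
    (hD : ∀ k ∈ closure ({a, b} : Set G), (orderOf k).Coprime p → ∀ d ∈ D, Commute k d)
    (hqa : ∀ v ∈ R, ∃ e ∈ D, a * (v⁻¹ * (a * v * a⁻¹)) * a⁻¹ = (v⁻¹ * (a * v * a⁻¹)) * e)
    (hqb : ∀ v ∈ R, ∃ e ∈ D, b * (v⁻¹ * (b * v * b⁻¹)) * b⁻¹ = (v⁻¹ * (b * v * b⁻¹)) * e) :
    ∀ k ∈ closure ({a, b} : Set G), ∃ n : ℕ, k ^ p ^ n ∈ centralizer (R : Set G) := by
  set L := closure ({a, b} : Set G) with hL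
  have haL : a ∈ L := subset_closure (by simp)
  have hbL : b ∈ L := subset_closure (by simp)
  have hLR : L ≤ normalizer (R : Set G) := by
    rw [hL, closure_le]
    rintro x (rfl | rfl)
    · exact haR
    · exact hbR
  by_contra hcon
  push Not at hcon
  obtain ⟨k₀, hk₀L, hk₀⟩ := hcon
  let Bad : Subgroup G → Prop := fun Q => Q ≤ R ∧ (∀ l ∈ L, ∀ v ∈ Q, l * v * l⁻¹ ∈ Q) ∧
    ∃ k ∈ L, (orderOf k).Coprime p ∧ ∃ v ∈ Q, ¬ Commute k v
  have hBadR : Bad R := by
    refine ⟨le_rfl, fun l hl v hv => ?_, ?_⟩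
    · exact (mem_normalizer_iff.1 (hLR hl) v).1 hv
    · obtain ⟨j, m, hm, hkm⟩ := Nat.exists_eq_pow_mul_and_not_dvd (orderOf_pos k₀).ne' p
        hpf.out.one_lt.ne'
      refine ⟨k₀ ^ p ^ j, L.pow_mem hk₀L _, ?_, ?_⟩
      · rw [orderOf_pow_of_dvd (pow_ne_zero _ hpf.out.ne_zero)
          (by rw [hkm]; exact Dvd.intro _ rfl), hkm, Nat.mul_div_cancel_left _ (pow_pos hpf.out.pos _)]
        exact ((Nat.Prime.coprime_iff_not_dvd hpf.out).2 hm).symm
      · by_contra hc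
        push Not at hc
        apply hk₀ j
        rw [mem_centralizer_iff]
        intro v hv
        exact (hc v hv).eq.symm
  obtain ⟨Q, ⟨hQR, hQL, k₁, hk₁L, hk₁o, v₁, hv₁, hk₁v⟩, hmin⟩ :=
    exists_minimal_of_wellFoundedLT Bad ⟨R, hBadR⟩
  have hQp : IsPGroup p Q := hR.to_le hQR
  set M : Set G := {k | k ∈ L ∧ (orderOf k).Coprime p} with hM
  set U : Subgroup G := Q ⊓ centralizer M with hU
  have hUQ : U ≤ Q := inf_le_left
  have hUM : ∀ k ∈ L, (orderOf k).Coprime p → ∀ u ∈ U, Commute k u := by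
    intro k hk hko u hu
    exact (mem_centralizer_iff.1 hu.2) k ⟨hk, hko⟩
  have hUL : ∀ l ∈ L, ∀ u ∈ U, l * u * l⁻¹ ∈ U := by
    intro l hl u hu
    refine ⟨hQL l hl u hu.1, ?_⟩
    change l * u * l⁻¹ ∈ centralizer M
    rw [mem_centralizer_iff]
    rintro k ⟨hk, hko⟩
    have h1 : Commute (l⁻¹ * k * l⁻¹⁻¹) u := hUM _ (mul_mem (mul_mem (inv_mem hl) hk)
      (inv_mem (inv_mem hl))) (by rw [orderOf_conj']; exact hko) u hu
    have h2 : (l⁻¹ * k * l⁻¹⁻¹) * u = u * (l⁻¹ * k * l⁻¹⁻¹) := h1.eq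
    rw [inv_inv] at h2
    calc k * (l * u * l⁻¹) = l * ((l⁻¹ * k * l) * u) * l⁻¹ := by group
      _ = l * (u * (l⁻¹ * k * l)) * l⁻¹ := by rw [h2]
      _ = l * u * l⁻¹ * k := by group
  have claimA : ∀ Q' : Subgroup G, Q' ≤ Q → (∀ l ∈ L, ∀ v ∈ Q', l * v * l⁻¹ ∈ Q') →
      Q' ≤ U ∨ Q' = Q := by
    intro Q' h1 h2
    by_cases hbad : Bad Q'
    · exact Or.inr (le_antisymm h1 (hmin hbad h1))
    · left
      intro v hv
      refine ⟨h1 hv, ?_⟩
      change v ∈ centralizer M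
      rw [mem_centralizer_iff]
      rintro k ⟨hk, hko⟩
      by_contra hkv
      exact hbad ⟨h1.trans hQR, h2, k, hk, hko, v, hv, hkv⟩
  have hQU : ¬ Q ≤ U := fun h => hk₁v (hUM k₁ hk₁L hk₁o v₁ (h hv₁))
  have hQ1 : Q ≠ ⊥ := by
    rintro h
    apply hQU
    rw [h]; exact bot_le
  -- commutators
  have hcU : ⁅Q, Q⁆ ≤ U := by
    have hlt := commutator_lt_self hQp hQ1
    rcases claimA ⁅Q, Q⁆ hlt.le (by
      intro l hl v hv
      have h1 : Q.map (MulAut.conj l).toMonoidHom ≤ Q := by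
        rintro _ ⟨w, hw, rfl⟩
        exact hQL l hl w hw
      have h2 : (⁅Q, Q⁆).map (MulAut.conj l).toMonoidHom ≤ ⁅Q, Q⁆ := by
        rw [map_commutator]
        exact commutator_mono h1 h1
      exact h2 ⟨v, hv, rfl⟩) with h | h
    · exact h
    · exact absurd h hlt.ne
  have hcomm : ∀ v ∈ Q, ∀ w ∈ Q, v * w * v⁻¹ * w⁻¹ ∈ U := by
    intro v hv w hw
    exact hcU (commutator_mem_commutator hv hw)
  have hstab : ∀ k ∈ L, (orderOf k).Coprime p → ∀ v ∈ Q, k * v * k⁻¹ * v⁻¹ ∈ U → Commute k v := by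
    intro k hk hko v hv h
    have h1 : ⁅v, k⁆ = (k * v * k⁻¹ * v⁻¹)⁻¹ := by rw [commutatorElement_def]; group
    have h2 : ⁅v, k⁆ ∈ U := by rw [h1]; exact U.inv_mem h
    exact (Lib.CoprimeStab.commute_of_commutator_commute (coprime_orderOf_card hQp hko) (hUQ h2)
      ((hUM k hk hko _ h2).symm)).symm
  -- `U` is central
  have hUc : ∀ u ∈ U, ∀ w ∈ Q, Commute u w := by
    have hUn : ∀ v ∈ Q, ∀ u ∈ U, v * u * v⁻¹ ∈ U := by
      intro v hv u hu
      have h1 := U.mul_mem (hcomm v hv u (hUQ hu)) hu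
      have e : v * u * v⁻¹ * u⁻¹ * u = v * u * v⁻¹ := by group
      rwa [e] at h1
    rcases claimA (Q ⊓ centralizer (U : Set G)) inf_le_left (by
      intro l hl v hv
      refine ⟨hQL l hl v hv.1, ?_⟩
      change l * v * l⁻¹ ∈ centralizer (U : Set G)
      rw [mem_centralizer_iff]
      intro u hu
      have h1 : l⁻¹ * u * l⁻¹⁻¹ ∈ U := hUL l⁻¹ (inv_mem hl) u hu
      have h2 := (mem_centralizer_iff.1 hv.2) _ h1
      rw [inv_inv] at h2
      calc u * (l * v * l⁻¹) = l * ((l⁻¹ * u * l) * v) * l⁻¹ := by group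
        _ = l * (v * (l⁻¹ * u * l)) * l⁻¹ := by rw [h2]
        _ = l * v * l⁻¹ * u := by group) with h | h
    · exfalso
      apply hk₁v
      refine hstab k₁ hk₁L hk₁o v₁ hv₁ ?_
      have h1 : v₁⁻¹ * (k₁ * v₁ * k₁⁻¹) ∈ U := by
        apply h
        refine ⟨Q.mul_mem (Q.inv_mem hv₁) (hQL k₁ hk₁L v₁ hv₁), ?_⟩
        change v₁⁻¹ * (k₁ * v₁ * k₁⁻¹) ∈ centralizer (U : Set G)
        rw [mem_centralizer_iff]
        intro u hu
        have h2 := hUn v₁ hv₁ u hu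
        have h3 : k₁ * (v₁ * u * v₁⁻¹) = (v₁ * u * v₁⁻¹) * k₁ := (hUM k₁ hk₁L hk₁o _ h2).eq
        have h4 : k₁ * u = u * k₁ := (hUM k₁ hk₁L hk₁o _ hu).eq
        have h5 : k₁⁻¹ * u = u * k₁⁻¹ := by
          rw [inv_mul_eq_iff_eq_mul, ← mul_assoc, h4, mul_inv_cancel_right]
        calc u * (v₁⁻¹ * (k₁ * v₁ * k₁⁻¹)) = v₁⁻¹ * ((v₁ * u * v₁⁻¹) * k₁) * v₁ * k₁⁻¹ := by group
          _ = v₁⁻¹ * (k₁ * (v₁ * u * v₁⁻¹)) * v₁ * k₁⁻¹ := by rw [h3]
          _ = v₁⁻¹ * k₁ * v₁ * (u * k₁⁻¹) := by group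
          _ = v₁⁻¹ * k₁ * v₁ * (k₁⁻¹ * u) := by rw [h5]
          _ = v₁⁻¹ * (k₁ * v₁ * k₁⁻¹) * u := by group
      have h6 := hUn v₁ hv₁ _ h1
      have e : v₁ * (v₁⁻¹ * (k₁ * v₁ * k₁⁻¹)) * v₁⁻¹ = k₁ * v₁ * k₁⁻¹ * v₁⁻¹ := by group
      rwa [e] at h6
    · intro u hu w hw
      have h1 : w ∈ Q ⊓ centralizer (U : Set G) := by rw [h]; exact hw
      exact (mem_centralizer_iff.1 h1.2) u hu
  -- the quotient `V = Q / U`
  have hnormal : (U.subgroupOf Q).Normal := by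
    constructor
    intro n hn g
    have h1 : (n : G) * g = g * n := (hUc n hn g g.2).eq
    have h2 : g * n * g⁻¹ = n := by
      apply Subtype.ext
      change (g : G) * n * (g : G)⁻¹ = n
      rw [← h1, mul_inv_cancel_right]
    rw [h2]; exact hn
  have hLQ : L ≤ normalizer (Q : Set G) := by
    intro l hl
    rw [Lib.GoldschmidtFusion.mem_normalizer_iff_map_conj]
    apply Lib.GoldschmidtFusion.map_conj_le_of_le_normalizer
    rintro _ ⟨w, hw, rfl⟩
    exact hQL l hl w hw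
  let α : L →* MulAut Q := Q.normalizerMonoidHom.comp (Subgroup.inclusion hLQ)
  have hα : ∀ (k : L) (v : Q), ((α k v : Q) : G) = k * v * (k : G)⁻¹ := fun _ _ => rfl
  have hαN : ∀ k, ∀ x ∈ U.subgroupOf Q, α k x ∈ U.subgroupOf Q := by
    intro k x hx
    exact hUL k k.2 x hx
  let θ := quotientAction α (U.subgroupOf Q) hαN
  have hmk : ∀ v w : Q, ((v : Q ⧸ U.subgroupOf Q) = w ↔ (v : G)⁻¹ * w ∈ U) := by
    intro v w
    rw [QuotientGroup.eq]; rfl
  have hθ : ∀ (k : L) (v : Q), θ k (v : Q ⧸ U.subgroupOf Q) = ((α k v : Q) : Q ⧸ U.subgroupOf Q) :=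
    fun k v => quotientAction_mk α _ hαN k v
  have hVcomm : ∀ x y : Q ⧸ U.subgroupOf Q, x * y = y * x := by
    intro x y
    obtain ⟨v, rfl⟩ := QuotientGroup.mk_surjective x
    obtain ⟨w, rfl⟩ := QuotientGroup.mk_surjective y
    rw [← QuotientGroup.mk_mul, ← QuotientGroup.mk_mul, hmk]
    change ((v : G) * w)⁻¹ * (w * v) ∈ U
    have h1 := hcomm (w : G)⁻¹ (Q.inv_mem w.2) (v : G)⁻¹ (Q.inv_mem v.2)
    have e : (w : G)⁻¹ * (v : G)⁻¹ * (w : G)⁻¹⁻¹ * (v : G)⁻¹⁻¹ = ((v : G) * w)⁻¹ * (w * v) := by group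
    rwa [e] at h1
  have hquadθ : ∀ (c : G) (hc : c ∈ L),
      (∀ v ∈ R, ∃ e ∈ D, c * (v⁻¹ * (c * v * c⁻¹)) * c⁻¹ = (v⁻¹ * (c * v * c⁻¹)) * e) →
      ∀ v, θ ⟨c, hc⟩ (v⁻¹ * θ ⟨c, hc⟩ v) = v⁻¹ * θ ⟨c, hc⟩ v := by
    intro c hc hq x
    obtain ⟨v, rfl⟩ := QuotientGroup.mk_surjective x
    rw [hθ, ← QuotientGroup.mk_inv, ← QuotientGroup.mk_mul, hθ, eq_comm, hmk]
    obtain ⟨e, he, hev⟩ := hq v (hQR v.2)
    have h1 : ((v⁻¹ * α ⟨c, hc⟩ v : Q) : G)⁻¹ * ((α ⟨c, hc⟩ (v⁻¹ * α ⟨c, hc⟩ v) : Q) : G) = e := by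
      rw [hα]
      change ((v : G)⁻¹ * (c * v * c⁻¹))⁻¹ * (c * ((v : G)⁻¹ * (c * v * c⁻¹)) * c⁻¹) = e
      rw [hev]; group
    have heQ : e ∈ Q := by rw [← h1]; exact Q.mul_mem (Q.inv_mem (SetLike.coe_mem _)) (SetLike.coe_mem _)
    rw [h1]
    refine ⟨heQ, ?_⟩
    change e ∈ centralizer M
    rw [mem_centralizer_iff]
    rintro k ⟨hk, hko⟩
    exact (hD k hk hko e he).eq
  have hcl : closure {(⟨a, haL⟩ : L), ⟨b, hbL⟩} = ⊤ := by
    have h1 := closure_closure_coe_preimage (k := ({a, b} : Set G))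
    rw [← h1]
    congr 1
    ext x
    simp only [Set.mem_insert_iff, Set.mem_singleton_iff, Set.mem_preimage]
    constructor
    · rintro (rfl | rfl) <;> simp
    · rintro (h | h)
      · left; exact Subtype.ext h
      · right; exact Subtype.ext h
  have hVp : IsPGroup p (Q ⧸ U.subgroupOf Q) := hQp.to_quotient _
  obtain ⟨L₁, φ, ι, hφs, hιi, hι⟩ := NatSub.exists_nat (p := p) hp2 hVp hVcomm θ ⟨a, haL⟩ ⟨b, hbL⟩ hcl
    (hquadθ a haL hqa) (hquadθ b hbL hqb) (by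
      intro N hN
      rcases claimA ((N.comap (QuotientGroup.mk' (U.subgroupOf Q))).map Q.subtype)
        (map_subtype_le _) (by
          rintro l hl _ ⟨v, hv, rfl⟩
          refine ⟨α ⟨l, hl⟩ v, ?_, rfl⟩
          have h1 := hN ⟨l, hl⟩ _ hv
          rw [QuotientGroup.coe_mk', hθ] at h1
          exact h1) with h | h
      · left
        rw [eq_bot_iff]
        intro x hx
        obtain ⟨v, rfl⟩ := QuotientGroup.mk_surjective x
        have h1 : (v : G) ∈ U := h ⟨v, hx, rfl⟩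
        rw [mem_bot]
        exact (QuotientGroup.eq_one_iff v).2 h1
      · right
        rw [eq_top_iff]
        intro x _
        obtain ⟨v, rfl⟩ := QuotientGroup.mk_surjective x
        have h1 : (v : G) ∈ (N.comap (QuotientGroup.mk' (U.subgroupOf Q))).map Q.subtype := by
          rw [h]; exact v.2
        obtain ⟨w, hw, hwv⟩ := h1
        have : w = v := Subtype.ext hwv
        rw [← this]; exact hw) ⟨⟨k₁, hk₁L⟩, ((⟨v₁, hv₁⟩ : Q) : Q ⧸ U.subgroupOf Q), by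
      intro h
      apply hk₁v
      apply hstab k₁ hk₁L hk₁o v₁ hv₁
      rw [hθ, eq_comm, hmk] at h
      have h1 : v₁⁻¹ * (k₁ * v₁ * k₁⁻¹) ∈ U := h
      have h2 := hUc _ h1 v₁ hv₁
      have e : k₁ * v₁ * k₁⁻¹ * v₁⁻¹ = v₁ * (v₁⁻¹ * (k₁ * v₁ * k₁⁻¹)) * v₁⁻¹ := by group
      rw [e, ← h2.eq, mul_inv_cancel_right]
      exact h1⟩
  -- the subgroups `W` and `K` of `G`
  set W : Subgroup G := (ι.range.comap (QuotientGroup.mk' (U.subgroupOf Q))).map Q.subtype with hW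
  have hWQ : W ≤ Q := map_subtype_le _
  have hWι : ∀ w : W, ∃ y, ι y = ((⟨w, hWQ w.2⟩ : Q) : Q ⧸ U.subgroupOf Q) := by
    rintro ⟨w, v, ⟨y, hy⟩, hvw⟩
    refine ⟨y, ?_⟩
    rw [hy]
    have : v = ⟨w, hWQ ⟨v, ⟨y, hy⟩, hvw⟩⟩ := Subtype.ext hvw
    rw [← this]; rfl
  choose f₀ hf₀ using hWι
  let f : W →* Multiplicative (Fin 2 → ZMod p) :=
    { toFun := f₀
      map_one' := by
        apply hιi
        rw [hf₀, map_one]
        exact QuotientGroup.mk_one _
      map_mul' := by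
        intro v w
        apply hιi
        rw [hf₀, map_mul, hf₀, hf₀, ← QuotientGroup.mk_mul]
        rfl }
  have hf : ∀ w : W, ι (f w) = ((⟨w, hWQ w.2⟩ : Q) : Q ⧸ U.subgroupOf Q) := hf₀
  let K : Subgroup G := L₁.map L.subtype
  let ε : L₁ ≃* K := L₁.equivMapOfInjective L.subtype L.subtype_injective
  have hε : ∀ k : K, (((ε.symm k : L₁) : L) : G) = k := by
    intro k
    have h1 : ε (ε.symm k) = k := ε.apply_symm_apply k
    exact congrArg Subtype.val h1
  have hKL : K ≤ L := map_subtype_le _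
  refine final (G := G) (W := W) (U := U) (K := K) hp2 hst (hQp.to_le hWQ) ?_ ?_
    (φ.comp ε.symm.toMonoidHom) (hφs.comp ε.symm.surjective) ?_ f ?_ ?_ ?_
  · intro u hu
    refine ⟨⟨u, hUQ hu⟩, ⟨1, ?_⟩, rfl⟩
    rw [map_one]
    exact ((QuotientGroup.eq_one_iff (⟨u, hUQ hu⟩ : Q)).2 hu).symm
  · intro u hu w hw
    exact hUc u hu w (hWQ hw)
  · intro k hk hko u hu
    exact hUM k (hKL hk) hko u hu
  · intro y
    obtain ⟨v, hv⟩ := QuotientGroup.mk_surjective (ι y)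
    refine ⟨⟨v, v, ⟨y, hv.symm⟩, rfl⟩, ?_⟩
    apply hιi
    rw [hf]
    exact hv
  · intro w hw
    have h1 := hf w
    rw [hw, map_one, eq_comm, QuotientGroup.eq_one_iff] at h1
    exact h1
  · intro k w
    have h1 : (k : G) * w * (k : G)⁻¹ ∈ W := by
      obtain ⟨l, hl⟩ : ∃ l : L₁, ε.symm k = l := ⟨_, rfl⟩
      refine ⟨α (ε.symm k : L₁) ⟨w, hWQ w.2⟩, ⟨Multiplicative.ofAdd (mat (φ (ε.symm k)) *ᵥ
        Multiplicative.toAdd (f w)), ?_⟩, ?_⟩
      · rw [← hι, ofAdd_toAdd, hf, hθ]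
        rfl
      · change ((α (ε.symm k : L₁) ⟨w, hWQ w.2⟩ : Q) : G) = _
        rw [hα, hε]
    refine ⟨h1, ?_⟩
    apply hιi
    rw [hf]
    change _ = ι (Multiplicative.ofAdd (mat (φ (ε.symm k)) *ᵥ Multiplicative.toAdd (f w)))
    rw [← hι, ofAdd_toAdd, hf, hθ]
    congr 1
    apply Subtype.ext
    rw [hα, hε]

end Core

section Transfer

variable {G : Type*} [Group G] {p : ℕ}

open Cfsg.Agent.Lib.GoldschmidtFusion

/-- Quotients by a normal `p`-subgroup centralised by the `p'`-elements. -/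
theorem nstab_of_pgroup {H : Type*} [Group H] [Finite G] [hpf : Fact p.Prime] (hp : p ≠ 2)
    (hst : NStab p G) (f : G →* H)
    (hf : Function.Surjective f) (hk : IsPGroup p f.ker)
    (hc : ∀ x : G, (orderOf x).Coprime p → ∀ d ∈ f.ker, Commute x d) : NStab p H := by
  intro P' hP' a' ha' hq h' hh' k' hk'
  set R := P'.comap f with hR
  have hRp : IsPGroup p R := by
    rw [hR]
    exact hP'.comap_of_ker_isPGroup f hk
  have hN : (normalizer (P' : Set H)).comap f = normalizer (R : Set G) :=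
    comap_normalizer_eq_of_surjective P' hf
  obtain ⟨a, rfl⟩ := hf a'
  obtain ⟨h, rfl⟩ := hf h'
  have ha : a ∈ normalizer (R : Set G) := by rw [← hN]; exact ha'
  have hh : h ∈ normalizer (R : Set G) := by rw [← hN]; exact hh'
  have h1 : (closure ({a, h * a * h⁻¹} : Set G)).map f = closure ({f a, f h * f a * (f h)⁻¹} : Set H) := by
    rw [MonoidHom.map_closure, Set.image_pair, map_mul, map_mul, map_inv]
  rw [← h1] at hk'
  obtain ⟨k, hkc, rfl⟩ := hk'
  have key : ∀ c : G, Quad P' (f c) → ∀ v ∈ R, ∃ e ∈ f.ker,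
      c * (v⁻¹ * (c * v * c⁻¹)) * c⁻¹ = (v⁻¹ * (c * v * c⁻¹)) * e := by
    intro c hqc v hv
    refine ⟨(v⁻¹ * (c * v * c⁻¹))⁻¹ * (c * (v⁻¹ * (c * v * c⁻¹)) * c⁻¹), ?_, by group⟩
    rw [MonoidHom.mem_ker]
    simp only [map_mul, map_inv]
    rw [inv_mul_eq_one]
    exact (hqc (f v) hv).symm
  obtain ⟨n, hn⟩ := core hp hst hRp ha (mul_mem (mul_mem hh ha) (inv_mem hh))
    (D := f.ker) (fun x _ hx d hd => hc x hx d hd) (key a hq) (key (h * a * h⁻¹) (by
      rw [map_mul, map_mul, map_inv]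
      exact hq.conj hh')) k hkc
  refine ⟨n, ?_⟩
  rw [← map_pow, mem_centralizer_iff]
  intro w hw
  obtain ⟨v, rfl⟩ := hf w
  rw [← map_mul, ← map_mul, (mem_centralizer_iff.1 hn) v hw]

end Transfer

section Ctrl

open Cfsg.Agent.Lib.GoldschmidtFusion
open Cfsg.Agent.Walter
open Cfsg.Agent.Walter.GlaubermanFusion (Good Ctrl exists_conj_le_sylow conj_mem_normalizer_ZJ good_of_good_proper
  map_conj_le_iff card_sup_mul_card_inf card_mul_relIndex_of_le exists_of_pprime case_one)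

/-- **Control of strong fusion**: for `p` odd and `G` normalizer-`p`-stable, `N_G(Z(J(P)))` controls the strong fusion
of subgroups of `P`. -/
theorem ctrl {p : ℕ} [hpf : Fact p.Prime] (hp2 : p ≠ 2) :
    ∀ (n : ℕ) (G : Type*) [Group G] [Finite G], Nat.card G ≤ n → NStab p G → Ctrl p G := by
  intro n
  induction n with
  | zero =>
    intro G _ _ hn _
    exact absurd hn (by have : 0 < Nat.card G := Nat.card_pos; omega)
  | succ n ih =>
    intro G _ _ hn hst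
    have IH : ∀ H : Subgroup G, H ≠ ⊤ → Ctrl p H := by
      intro H hH
      refine ih H ?_ (hst.subgroup H)
      have h1 : Nat.card H < Nat.card G := by
        have h2 := ConjFunctor.card_lt_card_of_lt (lt_top_iff_ne_top.2 hH)
        rwa [Subgroup.card_top] at h2
      omega
    by_cases hO : pCore p G = ⊥
    · exact case_three hp2 hst IH hO
    intro P A g hA hg
    by_cases hCP : centralizer (pCore p G : Set G) ⊔ (P : Subgroup G) = ⊤
    · have hYn : (pCore p G).Normal := Lib.Cores.pCore_normal p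
      have hYp : IsPGroup p (pCore p G) := Lib.Cores.pCore_isPGroup p
      have hq : Ctrl p (G ⧸ pCore p G) := by
        have hker : (QuotientGroup.mk' (pCore p G)).ker = pCore p G := QuotientGroup.ker_mk' _
        refine ih _ ?_ (nstab_of_pgroup hp2 hst (QuotientGroup.mk' (pCore p G))
          (QuotientGroup.mk'_surjective _) (by rw [hker]; exact hYp) ?_)
        · have h1 : Nat.card (pCore p G) * Nat.card (G ⧸ pCore p G) = Nat.card G := by
            rw [mul_comm]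
            exact (Subgroup.card_eq_card_quotient_mul_card_subgroup _).symm
          have h2 : 1 < Nat.card (pCore p G) := by
            rw [Subgroup.one_lt_card_iff_ne_bot]; exact hO
          have h3 : 0 < Nat.card (G ⧸ pCore p G) := Nat.card_pos
          nlinarith
        · intro x hx d hd
          rw [hker] at hd
          have hxc := mem_centralizer_of_coprime P hCP x hx
          exact ((mem_centralizer_iff.1 hxc) d hd).symm
      exact case_one hq IH P hCP hA hg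
    · exact case_two hp2 hst IH P hCP hA hg

end Ctrl

end Cfsg.Agent.H461.PStab
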