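import Cfsg.Agent.H26.PStabFusion

/-!
# Normalizer `p`-stability for all odd `p` (helper461, S3837)

The lemmas `final`, `core`, `NStab.of_pgroup`, `ctrl` of `H26/PStab*` (helper26, `p > 3`) for all odd primes `p`:
`W1` is the subgroup generated by the elements inverted by `z`.
-/

set_option autoImplicit false

namespace Cfsg.Agent.H461.PStab

open Subgroup
open scoped commutatorElement
open Cfsg.Agent.PLocal.SL2Natural (mat mat_injective mat_mul mat_one)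
open scoped Matrix
open Cfsg.Agent.H26.PStab (Quad NStab quad_of_mod odd_card_of_isPGroup exists_lift)

section Twist

variable {G : Type*} [Group G]

/-- `z` and `w` invert `W` modulo the central subgroup `U` (of odd order) and centralise `U`; then some power `b` of
`y = w z⁻¹` satisfies `b z b⁻¹ = w` on `W`. -/
theorem exists_twist {W U : Subgroup G} {z w : G} (hUW : U ≤ W) (hU : ∀ u ∈ U, ∀ v ∈ W, Commute u v)
    (hzU : ∀ u ∈ U, Commute z u) (hwU : ∀ u ∈ U, Commute w u) [Finite U] (hodd : Odd (Nat.card U))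
    (hz : ∀ v ∈ W, ∃ c ∈ U, z * v * z⁻¹ = v⁻¹ * c) (hw : ∀ v ∈ W, ∃ c ∈ U, w * v * w⁻¹ = v⁻¹ * c) :
    ∃ n : ℕ, (∀ v ∈ W, ∃ β ∈ U, (w * z⁻¹) ^ n * v * ((w * z⁻¹) ^ n)⁻¹ = v * β) ∧
      ∀ v ∈ W, (w * z⁻¹) ^ n * (z * (((w * z⁻¹) ^ n)⁻¹ * v * (w * z⁻¹) ^ n) * z⁻¹) * ((w * z⁻¹) ^ n)⁻¹ =
      w * v * w⁻¹ := by
  set y := w * z⁻¹ with hy
  have hyU : ∀ u ∈ U, Commute y u := fun u hu => (hwU u hu).mul_left (hzU u hu).inv_left
  have key : ∀ v ∈ W, ∃ β ∈ U, y * v * y⁻¹ = v * β ∧ w * v * w⁻¹ = z * v * z⁻¹ * β⁻¹ := by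
    intro v hv
    obtain ⟨c, hc, h1⟩ := hz v hv
    obtain ⟨c', hc', h2⟩ := hw v hv
    refine ⟨c * c'⁻¹, U.mul_mem hc (U.inv_mem hc'), ?_, ?_⟩
    · have e1 : y * (v⁻¹ * c) * y⁻¹ = v⁻¹ * c' := by
        rw [← h1, ← h2, hy]; group
      have e2 : y * (v⁻¹ * c) * y⁻¹ = (y * v * y⁻¹)⁻¹ * c := by
        have e3 : y * c * y⁻¹ = c := by rw [(hyU c hc).eq, mul_inv_cancel_right]
        calc y * (v⁻¹ * c) * y⁻¹ = (y * v * y⁻¹)⁻¹ * (y * c * y⁻¹) := by group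
          _ = _ := by rw [e3]
      rw [e2] at e1
      have e4 : (y * v * y⁻¹)⁻¹ = v⁻¹ * c' * c⁻¹ := by rw [← e1, mul_inv_cancel_right]
      have e5 : y * v * y⁻¹ = (c * c'⁻¹) * v := by
        rw [← inv_inv (y * v * y⁻¹), e4]; group
      rw [e5, (hU _ (U.mul_mem hc (U.inv_mem hc')) v hv).eq]
    · rw [h1, h2]
      have e1 : Commute c c' := hU c hc c' (hUW hc')
      rw [mul_inv_rev, inv_inv]
      calc v⁻¹ * c' = v⁻¹ * (c' * c) * c⁻¹ := by group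
        _ = v⁻¹ * (c * c') * c⁻¹ := by rw [e1.eq]
        _ = v⁻¹ * c * (c' * c⁻¹) := by group
  obtain ⟨m, hm⟩ := hodd
  have hpow : ∀ (v β : G), v ∈ W → β ∈ U → y * v * y⁻¹ = v * β → ∀ n : ℕ, y ^ n * v * (y ^ n)⁻¹ = v * β ^ n := by
    intro v β hv hβ h n
    induction n with
    | zero => simp
    | succ n ih =>
      have e1 : y ^ (n + 1) * v * (y ^ (n + 1))⁻¹ = y * (y ^ n * v * (y ^ n)⁻¹) * y⁻¹ := by
        rw [pow_succ']; group
      have e2 : y * β ^ n * y⁻¹ = β ^ n := by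
        rw [((hyU β hβ).pow_right n).eq, mul_inv_cancel_right]
      rw [e1, ih]
      calc y * (v * β ^ n) * y⁻¹ = (y * v * y⁻¹) * (y * β ^ n * y⁻¹) := by group
        _ = v * β * β ^ n := by rw [h, e2]
        _ = v * β ^ (n + 1) := by rw [mul_assoc, ← pow_succ']
  refine ⟨m + 1, fun v hv => ?_, fun v hv => ?_⟩
  · obtain ⟨β, hβ, h1, -⟩ := key v hv
    exact ⟨β ^ (m + 1), U.pow_mem hβ _, hpow v β hv hβ h1 _⟩
  obtain ⟨β, hβ, h1, h2⟩ := key v hv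
  obtain ⟨c, hc, h3⟩ := hz v hv
  set b := y ^ (m + 1) with hb
  have hbv : b * v * b⁻¹ = v * β ^ (m + 1) := hpow v β hv hβ h1 _
  have hbU : ∀ u ∈ U, b * u * b⁻¹ = u := fun u hu => by
    rw [((hyU u hu).pow_left (m + 1)).eq, mul_inv_cancel_right]
  have hβn : β ^ (m + 1) ∈ U := U.pow_mem hβ _
  have hbv' : b⁻¹ * v * b = v * (β ^ (m + 1))⁻¹ := by
    have e1 : b * (v * (β ^ (m + 1))⁻¹) * b⁻¹ = v := by
      calc b * (v * (β ^ (m + 1))⁻¹) * b⁻¹ = (b * v * b⁻¹) * (b * (β ^ (m + 1))⁻¹ * b⁻¹) := by group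
        _ = v * β ^ (m + 1) * (β ^ (m + 1))⁻¹ := by rw [hbv, hbU _ (U.inv_mem hβn)]
        _ = v := mul_inv_cancel_right _ _
    calc b⁻¹ * v * b = b⁻¹ * (b * (v * (β ^ (m + 1))⁻¹) * b⁻¹) * b := by rw [e1]
      _ = _ := by group
  have hzβ : z * (β ^ (m + 1))⁻¹ * z⁻¹ = (β ^ (m + 1))⁻¹ := by
    rw [(hzU _ (U.inv_mem hβn)).eq, mul_inv_cancel_right]
  have e6 : z * (b⁻¹ * v * b) * z⁻¹ = v⁻¹ * c * (β ^ (m + 1))⁻¹ := by
    rw [hbv']
    calc z * (v * (β ^ (m + 1))⁻¹) * z⁻¹ = (z * v * z⁻¹) * (z * (β ^ (m + 1))⁻¹ * z⁻¹) := by group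
      _ = _ := by rw [h3, hzβ]
  have e7 : b * (v⁻¹ * c * (β ^ (m + 1))⁻¹) * b⁻¹ = (v * β ^ (m + 1))⁻¹ * c * (β ^ (m + 1))⁻¹ := by
    calc b * (v⁻¹ * c * (β ^ (m + 1))⁻¹) * b⁻¹ = (b * v * b⁻¹)⁻¹ * (b * c * b⁻¹) * (b * (β ^ (m + 1))⁻¹ * b⁻¹) := by
          group
      _ = _ := by rw [hbv, hbU c hc, hbU _ (U.inv_mem hβn)]
  rw [e6, e7, h2, h3]
  have hβ2 : β ^ (m + 1) * β ^ (m + 1) = β := by
    rw [← pow_add, show m + 1 + (m + 1) = (2 * m + 1) + 1 by ring, ← hm, pow_succ]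
    have : β ^ Nat.card U = 1 := by
      have h1 : (⟨β, hβ⟩ : U) ^ Nat.card U = 1 := pow_card_eq_one'
      exact congrArg Subtype.val h1
    rw [this, one_mul]
  have c1 : Commute (β ^ (m + 1))⁻¹ v⁻¹ := (hU _ hβn v hv).inv_inv
  have c2 : Commute (β ^ (m + 1))⁻¹ c := hU _ (U.inv_mem hβn) c (hUW hc)
  calc (v * β ^ (m + 1))⁻¹ * c * (β ^ (m + 1))⁻¹ = ((β ^ (m + 1))⁻¹ * v⁻¹) * c * (β ^ (m + 1))⁻¹ := by
        rw [mul_inv_rev]
    _ = v⁻¹ * ((β ^ (m + 1))⁻¹ * c) * (β ^ (m + 1))⁻¹ := by rw [c1.eq]; group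
    _ = v⁻¹ * c * ((β ^ (m + 1)) * (β ^ (m + 1)))⁻¹ := by rw [c2.eq]; group
    _ = v⁻¹ * c * β⁻¹ := by rw [hβ2]

end Twist

section Final

variable {G : Type*} [Group G] [Finite G] {p : ℕ} [hpf : Fact p.Prime]

open Matrix
open Cfsg.Agent.PLocal.QuadraticNatural (upp low coe_upp coe_low upp_mul low_mul upp_pow upp_zero trace_eq_two)

omit [Finite G] in
theorem sq_mem_odd {U S : Subgroup G} [Finite U] (hodd : Odd (Nat.card U)) {u : G} (hu : u ∈ U) (h : u * u ∈ S) :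
    u ∈ S := by
  obtain ⟨m, hm⟩ := hodd
  have h1 : u ^ Nat.card U = 1 := by
    have h1 : (⟨u, hu⟩ : U) ^ Nat.card U = 1 := pow_card_eq_one'
    exact congrArg Subtype.val h1
  have h2 : u = (u * u) ^ (m + 1) := by
    rw [← pow_two, ← pow_mul, show 2 * (m + 1) = (2 * m + 1) + 1 by ring, ← hm, pow_succ, h1, one_mul]
  rw [h2]
  exact S.pow_mem h _

/-- A group mapping onto `SL(2, p)`, `p` odd, acting on `W` with `W / U` natural and `U` centralised by the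
`p'`-elements. -/
theorem final (hp2 : p ≠ 2) (hst : NStab p G) {W U K : Subgroup G} (hW : IsPGroup p W) (hUW : U ≤ W)
    (hUc : ∀ u ∈ U, ∀ w ∈ W, Commute u w) (φ : K →* SpecialLinearGroup (Fin 2) (ZMod p))
    (hφ : Function.Surjective φ)
    (hKU : ∀ k ∈ K, (orderOf k).Coprime p → ∀ u ∈ U, Commute k u)
    (f : W →* Multiplicative (Fin 2 → ZMod p)) (hf : Function.Surjective f)
    (hker : ∀ w : W, f w = 1 → (w : G) ∈ U)
    (hact : ∀ (k : K) (w : W), ∃ h : (k : G) * w * (k : G)⁻¹ ∈ W,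
      f ⟨_, h⟩ = Multiplicative.ofAdd (mat (φ k) *ᵥ Multiplicative.toAdd (f w))) : False := by
  have hpodd : Odd p := hpf.out.odd_of_ne_two hp2
  choose hmem hfm using hact
  have hUodd : Odd (Nat.card U) := odd_card_of_isPGroup hp2 (hW.to_le hUW)
  have hmemU : ∀ v w : W, f v = f w → ∃ e ∈ U, (w : G) = v * e := by
    intro v w hvw
    refine ⟨(v : G)⁻¹ * w, ?_, by group⟩
    have h1 := hker (v⁻¹ * w) (by rw [map_mul, map_inv, hvw, inv_mul_cancel])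
    simpa using h1
  -- the elements `x`, `z`
  obtain ⟨g, hg⟩ := hφ ((-1) * upp 1)
  have hcm : Commute (-1 : SpecialLinearGroup (Fin 2) (ZMod p)) (upp 1) := by
    rw [Commute, SemiconjBy]; simp
  have hup : (upp (1 : ZMod p)) ^ p = 1 := by
    rw [upp_pow, CharP.cast_eq_zero, zero_mul, upp_zero]
  obtain ⟨j, m, hm, hgm⟩ := Nat.exists_eq_pow_mul_and_not_dvd (orderOf_pos g).ne' p hpf.out.one_lt.ne'
  set z : K := g ^ (p ^ (j + 1)) with hz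
  set x : K := g ^ (p + 1) with hx
  have hφz : φ z = -1 := by
    rw [hz, map_pow, hg, hcm.mul_pow, pow_succ' p j, pow_mul (upp (1 : ZMod p)), hup, one_pow, mul_one]
    exact ((hpodd.mul hpodd.pow).neg_one_pow)
  have hφx : φ x = upp 1 := by
    rw [hx, map_pow, hg, hcm.mul_pow, pow_succ (upp (1 : ZMod p)), hup, one_mul,
      (hpodd.add_one).neg_one_pow, one_mul]
  have hzo : (orderOf (z : G)).Coprime p := by
    rw [Subgroup.orderOf_coe]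
    have h1 : z = (g ^ p ^ j) ^ p := by rw [hz, pow_succ, pow_mul]
    have h2 : orderOf (g ^ p ^ j) = m := by
      rw [orderOf_pow_of_dvd (pow_ne_zero _ hpf.out.ne_zero) (by rw [hgm]; exact Dvd.intro _ rfl), hgm,
        Nat.mul_div_cancel_left _ (pow_pos hpf.out.pos _)]
    have h3 : orderOf z ∣ m := by
      rw [h1, ← h2]
      exact orderOf_pow_dvd p
    exact Nat.Coprime.coprime_dvd_left h3 ((Nat.Prime.coprime_iff_not_dvd hpf.out).2 hm).symm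
  have hxz : Commute (x : G) (z : G) := by
    have : Commute x z := by rw [hx, hz]; exact Commute.pow_pow_self g _ _
    exact this.map K.subtype
  have hzU : ∀ u ∈ U, Commute (z : G) u := hKU z z.2 hzo
  -- a `p'`-element mapping to `-1` inverts `W / U`
  have hinv : ∀ k : K, φ k = -1 → ∀ v ∈ W, ∃ c ∈ U, (k : G) * v * (k : G)⁻¹ = v⁻¹ * c := by
    intro k hk v hv
    obtain ⟨e, he, hve⟩ := hmemU (⟨v, hv⟩⁻¹) ⟨_, hmem k ⟨v, hv⟩⟩ (by
      rw [hfm, hk, map_inv]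
      apply Multiplicative.toAdd.injective
      rw [toAdd_inv, toAdd_ofAdd]
      change -Multiplicative.toAdd (f ⟨v, hv⟩) =
        ((-1 : SpecialLinearGroup (Fin 2) (ZMod p)) : Matrix (Fin 2) (Fin 2) (ZMod p)) *ᵥ _
      rw [Matrix.SpecialLinearGroup.coe_neg, Matrix.SpecialLinearGroup.coe_one, Matrix.neg_mulVec,
        Matrix.one_mulVec])
    exact ⟨e, he, hve⟩
  -- generators of `W` modulo `U`
  obtain ⟨g₁, hg₁⟩ := hf (Multiplicative.ofAdd (Pi.single 0 1))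
  obtain ⟨g₂, hg₂⟩ := hf (Multiplicative.ofAdd (Pi.single 1 1))
  set s : G := (g₁ : G) * g₂ * (g₁ : G)⁻¹ * (g₂ : G)⁻¹ with hs
  have hcomm : ∀ v ∈ W, ∀ w ∈ W, v * w * v⁻¹ * w⁻¹ ∈ U := by
    intro v hv w hw
    have h1 := hker (⟨v, hv⟩ * ⟨w, hw⟩ * ⟨v, hv⟩⁻¹ * ⟨w, hw⟩⁻¹) (by
      rw [map_mul, map_mul, map_mul, map_inv, map_inv]
      rw [mul_comm (f ⟨v, hv⟩), mul_inv_cancel_right, mul_inv_cancel])
    simpa using h1
  have hsU : s ∈ U := hcomm g₁ g₁.2 g₂ g₂.2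
  set S₀ : Subgroup G := zpowers s with hS₀
  have hSU : S₀ ≤ U := by rw [hS₀, zpowers_le]; exact hsU
  have hSW : S₀ ≤ W := hSU.trans hUW
  -- generation
  have hgen : ∀ P : Subgroup G, U ≤ P → (g₁ : G) ∈ P → (g₂ : G) ∈ P → W ≤ P := by
    intro P hUP h1 h2 v hv
    obtain ⟨a, ha⟩ : ∃ a : Fin 2 → ZMod p, f ⟨v, hv⟩ = Multiplicative.ofAdd a := ⟨_, rfl⟩
    obtain ⟨e, he, hve⟩ := hmemU (g₁ ^ (a 0).val * g₂ ^ (a 1).val) ⟨v, hv⟩ (by
      rw [map_mul, map_pow, map_pow, hg₁, hg₂, ha]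
      apply Multiplicative.toAdd.injective
      rw [toAdd_mul, toAdd_pow, toAdd_pow, toAdd_ofAdd, toAdd_ofAdd, toAdd_ofAdd]
      funext i
      rw [Pi.add_apply, Pi.smul_apply, Pi.smul_apply, nsmul_eq_mul, nsmul_eq_mul, ZMod.natCast_zmod_val,
        ZMod.natCast_zmod_val]
      fin_cases i <;> simp)
    have h3 : v = (g₁ : G) ^ (a 0).val * (g₂ : G) ^ (a 1).val * e := hve
    rw [h3]
    exact P.mul_mem (P.mul_mem (P.pow_mem h1 _) (P.pow_mem h2 _)) (hUP he)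
  -- commutators
  have hC1 : ∀ v ∈ W, ∀ w ∈ W, v * w * v⁻¹ * w⁻¹ ∈ S₀ := by
    have aux : ∀ w ∈ W, (g₁ : G) * w * (g₁ : G)⁻¹ * w⁻¹ ∈ S₀ → (g₂ : G) * w * (g₂ : G)⁻¹ * w⁻¹ ∈ S₀ →
        ∀ v ∈ W, v * w * v⁻¹ * w⁻¹ ∈ S₀ := by
      intro w hw h1 h2
      let P : Subgroup G :=
        { carrier := {v | v ∈ W ∧ v * w * v⁻¹ * w⁻¹ ∈ S₀}
          one_mem' := ⟨W.one_mem, by simp⟩
          mul_mem' := by
            rintro a b ⟨ha, ha'⟩ ⟨hb, hb'⟩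
            refine ⟨W.mul_mem ha hb, ?_⟩
            have e1 : Commute (b * w * b⁻¹ * w⁻¹) a := hUc _ (hSU hb') a ha
            have e2 : a * b * w * (a * b)⁻¹ * w⁻¹ = (b * w * b⁻¹ * w⁻¹) * (a * w * a⁻¹ * w⁻¹) := by
              calc a * b * w * (a * b)⁻¹ * w⁻¹ = (a * (b * w * b⁻¹ * w⁻¹)) * (w * a⁻¹ * w⁻¹) := by group
                _ = ((b * w * b⁻¹ * w⁻¹) * a) * (w * a⁻¹ * w⁻¹) := by rw [e1.eq]
                _ = _ := by group
            rw [e2]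
            exact S₀.mul_mem hb' ha'
          inv_mem' := by
            rintro a ⟨ha, ha'⟩
            refine ⟨W.inv_mem ha, ?_⟩
            have e1 : Commute (a * w * a⁻¹ * w⁻¹) a := hUc _ (hSU ha') a ha
            have e2 : a⁻¹ * w * a⁻¹⁻¹ * w⁻¹ = (a * w * a⁻¹ * w⁻¹)⁻¹ := by
              calc a⁻¹ * w * a⁻¹⁻¹ * w⁻¹ = a⁻¹ * (a * w * a⁻¹ * w⁻¹)⁻¹ * a := by group
                _ = a⁻¹ * (a * (a * w * a⁻¹ * w⁻¹)⁻¹) := by rw [mul_assoc, e1.inv_left.eq]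
                _ = _ := by group
            rw [e2]
            exact S₀.inv_mem ha' }
      have hP : W ≤ P := hgen P (fun u hu => ⟨hUW hu, by
        have e1 : u * w * u⁻¹ * w⁻¹ = 1 := by rw [(hUc u hu w hw).eq]; group
        rw [e1]; exact S₀.one_mem⟩) ⟨g₁.2, h1⟩ ⟨g₂.2, h2⟩
      exact fun v hv => (hP hv).2
    have h11 : ∀ v ∈ W, v * (g₁ : G) * v⁻¹ * (g₁ : G)⁻¹ ∈ S₀ := by
      refine aux g₁ g₁.2 ?_ ?_
      · have e1 : (g₁ : G) * g₁ * (g₁ : G)⁻¹ * (g₁ : G)⁻¹ = 1 := by group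
        rw [e1]; exact S₀.one_mem
      · have e1 : (g₂ : G) * g₁ * (g₂ : G)⁻¹ * (g₁ : G)⁻¹ = s⁻¹ := by rw [hs]; group
        rw [e1]; exact S₀.inv_mem (mem_zpowers s)
    have h12 : ∀ v ∈ W, v * (g₂ : G) * v⁻¹ * (g₂ : G)⁻¹ ∈ S₀ := by
      refine aux g₂ g₂.2 (mem_zpowers s) ?_
      have e1 : (g₂ : G) * g₂ * (g₂ : G)⁻¹ * (g₂ : G)⁻¹ = 1 := by group
      rw [e1]; exact S₀.one_mem
    intro v hv w hw
    refine aux w hw ?_ ?_ v hv
    · have e1 : (g₁ : G) * w * (g₁ : G)⁻¹ * w⁻¹ = (w * g₁ * w⁻¹ * (g₁ : G)⁻¹)⁻¹ := by group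
      rw [e1]; exact S₀.inv_mem (h11 w hw)
    · have e1 : (g₂ : G) * w * (g₂ : G)⁻¹ * w⁻¹ = (w * g₂ * w⁻¹ * (g₂ : G)⁻¹)⁻¹ := by group
      rw [e1]; exact S₀.inv_mem (h12 w hw)
  -- `K` normalises `S₀`
  have hKS : ∀ k : K, ∀ t ∈ S₀, (k : G) * t * (k : G)⁻¹ ∈ S₀ := by
    intro k t ht
    obtain ⟨n, rfl⟩ := mem_zpowers_iff.1 ht
    rw [← conj_zpow]
    refine S₀.zpow_mem ?_ n
    have e1 : (k : G) * s * (k : G)⁻¹ = ((k : G) * g₁ * (k : G)⁻¹) * ((k : G) * g₂ * (k : G)⁻¹) *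
        ((k : G) * g₁ * (k : G)⁻¹)⁻¹ * ((k : G) * g₂ * (k : G)⁻¹)⁻¹ := by rw [hs]; group
    rw [e1]
    exact hC1 _ (hmem k g₁) _ (hmem k g₂)
  -- the group `W₁`
  have hS₀c : ∀ t ∈ S₀, ∀ v ∈ W, Commute t v := fun t ht v hv => hUc t (hSU ht) v hv
  have hzW : ∀ v ∈ W, (z : G) * v * (z : G)⁻¹ ∈ W := fun v hv => hmem z ⟨v, hv⟩
  let W₁ : Subgroup G :=
    { carrier := {v | v ∈ W ∧ (z : G) * v * (z : G)⁻¹ * v ∈ S₀}
      one_mem' := ⟨W.one_mem, by simp⟩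
      mul_mem' := by
        rintro a b ⟨ha, ha'⟩ ⟨hb, hb'⟩
        refine ⟨W.mul_mem ha hb, ?_⟩
        set s1 := (z : G) * a * (z : G)⁻¹ * a with hs1
        set s2 := (z : G) * b * (z : G)⁻¹ * b with hs2
        have e1 : (z : G) * a * (z : G)⁻¹ = s1 * a⁻¹ := by rw [hs1]; group
        have e2 : (z : G) * b * (z : G)⁻¹ = s2 * b⁻¹ := by rw [hs2]; group
        have c2 : Commute s2 a⁻¹ := (hS₀c s2 hb' a ha).inv_right
        have e3 : (z : G) * (a * b) * (z : G)⁻¹ * (a * b) = s1 * s2 * (a⁻¹ * b⁻¹ * a⁻¹⁻¹ * b⁻¹⁻¹) := by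
          calc (z : G) * (a * b) * (z : G)⁻¹ * (a * b) = ((z : G) * a * (z : G)⁻¹) * ((z : G) * b * (z : G)⁻¹) * a * b := by
                group
            _ = s1 * (a⁻¹ * s2) * b⁻¹ * a * b := by rw [e1, e2]; group
            _ = s1 * (s2 * a⁻¹) * b⁻¹ * a * b := by rw [c2.eq]
            _ = _ := by group
        rw [e3]
        exact S₀.mul_mem (S₀.mul_mem ha' hb') (hC1 _ (W.inv_mem ha) _ (W.inv_mem hb))
      inv_mem' := by
        rintro a ⟨ha, ha'⟩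
        refine ⟨W.inv_mem ha, ?_⟩
        have c1 : Commute ((z : G) * a * (z : G)⁻¹ * a) a := hS₀c _ ha' a ha
        have e1 : (z : G) * a⁻¹ * (z : G)⁻¹ * a⁻¹ = ((z : G) * a * (z : G)⁻¹ * a)⁻¹ := by
          calc (z : G) * a⁻¹ * (z : G)⁻¹ * a⁻¹ = a * ((z : G) * a * (z : G)⁻¹ * a)⁻¹ * a⁻¹ := by group
            _ = ((z : G) * a * (z : G)⁻¹ * a)⁻¹ * a * a⁻¹ := by rw [c1.inv_left.eq]
            _ = _ := by group
        rw [e1]
        exact S₀.inv_mem ha' }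
  have hW₁ : ∀ v, v ∈ W₁ ↔ v ∈ W ∧ (z : G) * v * (z : G)⁻¹ * v ∈ S₀ := fun v => Iff.rfl
  have hW₁W : W₁ ≤ W := fun v hv => hv.1
  have hSW₁ : S₀ ≤ W₁ := by
    intro t ht
    refine ⟨hSW ht, ?_⟩
    rw [(hzU t (hSU ht)).eq, mul_inv_cancel_right]
    exact S₀.mul_mem ht ht
  -- elements of `W₁` with the same image
  have hC3 : ∀ v (hv : v ∈ W₁) w (hw : w ∈ W₁), f ⟨v, hW₁W hv⟩ = f ⟨w, hW₁W hw⟩ → ∃ e ∈ S₀, w = v * e := by
    intro v hv w hw hvw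
    obtain ⟨e, he, hve⟩ := hmemU ⟨v, hW₁W hv⟩ ⟨w, hW₁W hw⟩ hvw
    refine ⟨e, ?_, hve⟩
    have he1 : e ∈ W₁ := by
      have : e = v⁻¹ * w := by
        have hve' : w = v * e := hve
        rw [hve']; group
      rw [this]
      exact W₁.mul_mem (W₁.inv_mem hv) hw
    refine sq_mem_odd hUodd he ?_
    have h1 := he1.2
    rwa [(hzU e he).eq, mul_inv_cancel_right] at h1
  -- surjectivity of `f` on `W₁`
  have hC2 : ∀ v ∈ W, ∃ d ∈ U, v * d⁻¹ ∈ W₁ := by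
    intro v hv
    obtain ⟨c, hc, hzc⟩ := hinv z hφz v hv
    obtain ⟨d, hd, hdd⟩ : ∃ d ∈ U, d * d = c := by
      obtain ⟨m, hm⟩ := hUodd
      refine ⟨c ^ (m + 1), U.pow_mem hc _, ?_⟩
      rw [← pow_add, show m + 1 + (m + 1) = (2 * m + 1) + 1 by ring, ← hm, pow_succ]
      have : c ^ Nat.card U = 1 := by
        have h1 : (⟨c, hc⟩ : U) ^ Nat.card U = 1 := pow_card_eq_one'
        exact congrArg Subtype.val h1
      rw [this, one_mul]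
    refine ⟨d, hd, W.mul_mem hv (hUW (U.inv_mem hd)), ?_⟩
    have hdv : Commute d v := hUc d hd v hv
    have e2 : (z : G) * d⁻¹ * (z : G)⁻¹ = d⁻¹ := by
      rw [((hzU d hd).inv_right).eq, mul_inv_cancel_right]
    have e1 : (z : G) * (v * d⁻¹) * (z : G)⁻¹ * (v * d⁻¹) = 1 := by
      calc (z : G) * (v * d⁻¹) * (z : G)⁻¹ * (v * d⁻¹) = ((z : G) * v * (z : G)⁻¹) * ((z : G) * d⁻¹ * (z : G)⁻¹) *
            (v * d⁻¹) := by group
        _ = v⁻¹ * (d * d) * d⁻¹ * (v * d⁻¹) := by rw [hzc, e2, hdd]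
        _ = v⁻¹ * (d * v) * d⁻¹ := by group
        _ = v⁻¹ * (v * d) * d⁻¹ := by rw [hdv.eq]
        _ = 1 := by group
    rw [e1]
    exact S₀.one_mem
  -- `x` normalises `W₁` and centralises `s`
  have hxW₁ : ∀ v ∈ W₁, (x : G) * v * (x : G)⁻¹ ∈ W₁ := by
    intro v hv
    refine ⟨hmem x ⟨v, hv.1⟩, ?_⟩
    have e1 : (z : G) * ((x : G) * v * (x : G)⁻¹) * (z : G)⁻¹ * ((x : G) * v * (x : G)⁻¹) =
        (x : G) * ((z : G) * v * (z : G)⁻¹ * v) * (x : G)⁻¹ := by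
      have e2 : (z : G) * ((x : G) * v * (x : G)⁻¹) * (z : G)⁻¹ = ((z : G) * x) * v * ((z : G) * x)⁻¹ := by group
      rw [e2, ← hxz.eq]; group
    rw [e1]
    exact hKS x _ hv.2
  have hxs : Commute (x : G) s := by
    obtain ⟨e, he, h1⟩ := hmemU g₁ ⟨_, hmem x g₁⟩ (by
      rw [hfm, hg₁, hφx]
      apply Multiplicative.toAdd.injective
      rw [toAdd_ofAdd, toAdd_ofAdd]
      funext i
      fin_cases i <;> simp [mat, coe_upp])
    obtain ⟨e', he', h2⟩ := hmemU (g₁ * g₂) ⟨_, hmem x g₂⟩ (by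
      rw [hfm, map_mul, hg₁, hg₂, hφx]
      apply Multiplicative.toAdd.injective
      rw [toAdd_mul, toAdd_ofAdd, toAdd_ofAdd, toAdd_ofAdd]
      funext i
      fin_cases i <;> simp [mat, coe_upp])
    have h1' : (x : G) * g₁ * (x : G)⁻¹ = g₁ * e := h1
    have h2' : (x : G) * g₂ * (x : G)⁻¹ = g₁ * g₂ * e' := h2
    have e1 : (x : G) * s * (x : G)⁻¹ = ((x : G) * g₁ * (x : G)⁻¹) * ((x : G) * g₂ * (x : G)⁻¹) *
        ((x : G) * g₁ * (x : G)⁻¹)⁻¹ * ((x : G) * g₂ * (x : G)⁻¹)⁻¹ := by rw [hs]; group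
    rw [h1', h2'] at e1
    have c1 : Commute e ((g₁ : G) * g₂ * e') := hUc e he _ (W.mul_mem (W.mul_mem g₁.2 g₂.2) (hUW he'))
    have c2 : Commute e' ((g₁ : G)⁻¹) := hUc e' he' _ (W.inv_mem g₁.2)
    have c3 : Commute s (g₁ : G) := hUc s hsU _ g₁.2
    have e2 : (x : G) * s * (x : G)⁻¹ = s := by
      rw [e1]
      calc (g₁ : G) * e * (g₁ * g₂ * e') * ((g₁ : G) * e)⁻¹ * ((g₁ : G) * g₂ * e')⁻¹ =
            g₁ * (e * (g₁ * g₂ * e')) * e⁻¹ * (g₁ : G)⁻¹ * ((g₁ : G) * g₂ * e')⁻¹ := by group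
        _ = g₁ * ((g₁ * g₂ * e') * e) * e⁻¹ * (g₁ : G)⁻¹ * ((g₁ : G) * g₂ * e')⁻¹ := by rw [c1.eq]
        _ = g₁ * (g₁ * g₂) * (e' * (g₁ : G)⁻¹) * e'⁻¹ * (g₂ : G)⁻¹ * (g₁ : G)⁻¹ := by group
        _ = g₁ * (g₁ * g₂) * ((g₁ : G)⁻¹ * e') * e'⁻¹ * (g₂ : G)⁻¹ * (g₁ : G)⁻¹ := by rw [c2.eq]
        _ = g₁ * s * (g₁ : G)⁻¹ := by rw [hs]; group
        _ = s * g₁ * (g₁ : G)⁻¹ := by rw [c3.eq]
        _ = s := by group
    rw [Commute, SemiconjBy, ← mul_inv_eq_iff_eq_mul]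
    exact e2
  have hxS : ∀ t ∈ S₀, Commute (x : G) t := by
    intro t ht
    obtain ⟨n, rfl⟩ := mem_zpowers_iff.1 ht
    exact hxs.zpow_right n
  -- quadratic action
  have hquad : Quad W₁ (x : G) := by
    refine quad_of_mod (U := S₀) (z := (z : G)) hxz hSW₁ (fun t ht v hv => hS₀c t ht v (hW₁W hv)) hxS
      (fun t ht => hzU t (hSU ht)) (odd_card_of_isPGroup hp2 (hW.to_le hSW)) hxW₁ ?_ ?_ ?_
    · intro v hv
      refine ⟨(z : G) * v * (z : G)⁻¹ * v, hv.2, ?_⟩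
      have c1 : Commute ((z : G) * v * (z : G)⁻¹ * v) v⁻¹ := (hS₀c _ hv.2 v hv.1).inv_right
      rw [← c1.eq]; group
    · intro v hv w hw
      refine ⟨v⁻¹ * w⁻¹ * v⁻¹⁻¹ * w⁻¹⁻¹, ?_, ?_⟩
      · exact hC1 _ (W.inv_mem (hW₁W hv)) _ (W.inv_mem (hW₁W hw))
      · have c1 := hS₀c _ (hC1 _ (W.inv_mem (hW₁W hv)) _ (W.inv_mem (hW₁W hw))) (w * v)
          (W.mul_mem (hW₁W hw) (hW₁W hv))
        rw [← c1.eq]
        have c2 := hS₀c _ (hC1 _ (W.inv_mem (hW₁W hv)) _ (W.inv_mem (hW₁W hw))) w (hW₁W hw)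
        have c3 := hS₀c _ (hC1 _ (W.inv_mem (hW₁W hv)) _ (W.inv_mem (hW₁W hw))) v (hW₁W hv)
        rw [c1.eq]
        group
    · intro v hv
      have hw' : v⁻¹ * ((x : G) * v * (x : G)⁻¹) ∈ W₁ := W₁.mul_mem (W₁.inv_mem hv) (hxW₁ v hv)
      obtain ⟨e, he, hve⟩ := hC3 (v⁻¹ * ((x : G) * v * (x : G)⁻¹)) hw'
        ((x : G) * (v⁻¹ * ((x : G) * v * (x : G)⁻¹)) * (x : G)⁻¹) (hxW₁ _ hw') (by
          set v' : W := ⟨v, hW₁W hv⟩ with hv'
          set w' : W := v'⁻¹ * ⟨_, hmem x v'⟩ with hw''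
          change f w' = f ⟨_, hmem x w'⟩
          rw [hfm, hw'', map_mul, map_inv, hfm, hφx]
          apply Multiplicative.toAdd.injective
          rw [toAdd_mul, toAdd_inv, toAdd_ofAdd, toAdd_ofAdd]
          have h5 := Cfsg.Agent.PLocal.QuadraticNatural.quadratic_mulVec (upp (1 : ZMod p))
            (by rw [show (upp (1 : ZMod p)).1 = _ from coe_upp 1]; simp; norm_num)
            (Multiplicative.toAdd (f v'))
          rw [sub_eq_neg_add] at h5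
          exact h5.symm)
      exact ⟨e, he, hve⟩
  -- the second element
  have hW₀ : (!![0, 1; -1, 0] : Matrix (Fin 2) (Fin 2) (ZMod p)).det = 1 := by
    rw [Matrix.det_fin_two_of]; ring
  obtain ⟨w₀, hw₀⟩ : ∃ w₀ : SpecialLinearGroup (Fin 2) (ZMod p),
      (w₀ : Matrix (Fin 2) (Fin 2) (ZMod p)) = !![0, 1; -1, 0] := ⟨⟨_, hW₀⟩, rfl⟩
  obtain ⟨k₀, hk₀⟩ := hφ w₀
  set w : K := k₀⁻¹ * z * k₀ with hw
  have hφw : φ w = -1 := by
    rw [hw, map_mul, map_mul, map_inv, hφz]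
    have : Commute (-1 : SpecialLinearGroup (Fin 2) (ZMod p)) (φ k₀) := by
      rw [Commute, SemiconjBy]; simp
    rw [mul_assoc, this.eq, inv_mul_cancel_left]
  have hwo : (orderOf (w : G)).Coprime p := by
    have e1 : (w : G) = (k₀ : G)⁻¹ * z * ((k₀ : G)⁻¹)⁻¹ := by rw [hw, inv_inv]; rfl
    rw [e1, Cfsg.Agent.H26.PStab.orderOf_conj']
    exact hzo
  have hwU : ∀ u ∈ U, Commute (w : G) u := hKU w w.2 hwo
  obtain ⟨n, hn1, hn2⟩ := exists_twist (W := W) (U := U) (z := (z : G)) (w := (w : G)) hUW hUc hzU hwU hUodd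
    (hinv z hφz) (hinv w hφw)
  set b : K := (w * z⁻¹) ^ n with hb
  have hbG : (b : G) = ((w : G) * (z : G)⁻¹) ^ n := rfl
  rw [← hbG] at hn1 hn2
  have hφb : φ b = 1 := by
    rw [hb, map_pow, map_mul, map_inv, hφw, hφz, mul_inv_cancel, one_pow]
  set k₁ : K := k₀ * b with hk₁
  have hφk₁ : φ k₁ = w₀ := by rw [hk₁, map_mul, hk₀, hφb, mul_one]
  have hk₁W₁ : ∀ v ∈ W₁, (k₁ : G) * v * (k₁ : G)⁻¹ ∈ W₁ := by
    intro v hv
    refine ⟨hmem k₁ ⟨v, hv.1⟩, ?_⟩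
    have e1 : ∀ u ∈ W, ((b : G)⁻¹ * w * b) * u * ((b : G)⁻¹ * w * b)⁻¹ = z * u * (z : G)⁻¹ := by
      intro u hu
      have e2 := hn2 ((b : G) * u * (b : G)⁻¹) (hmem b ⟨u, hu⟩)
      calc ((b : G)⁻¹ * w * b) * u * ((b : G)⁻¹ * w * b)⁻¹ =
            (b : G)⁻¹ * (w * ((b : G) * u * (b : G)⁻¹) * (w : G)⁻¹) * b := by group
        _ = z * u * (z : G)⁻¹ := by rw [← e2]; group
    have e3 : (z : G) * ((k₁ : G) * v * (k₁ : G)⁻¹) * (z : G)⁻¹ * ((k₁ : G) * v * (k₁ : G)⁻¹) =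
        (k₁ : G) * ((z : G) * v * (z : G)⁻¹ * v) * (k₁ : G)⁻¹ := by
      rw [← e1 v hv.1]
      have e4 : (w : G) = (k₀ : G)⁻¹ * z * k₀ := rfl
      have e5 : (k₁ : G) = k₀ * b := rfl
      rw [e4, e5]
      group
    rw [e3]
    exact hKS k₁ _ hv.2
  -- the end
  have hnorm : ∀ k : G, (∀ v ∈ W₁, k * v * k⁻¹ ∈ W₁) → k ∈ normalizer (W₁ : Set G) := by
    intro k hk
    rw [Cfsg.Agent.Lib.GoldschmidtFusion.mem_normalizer_iff_map_conj]
    apply Cfsg.Agent.Lib.GoldschmidtFusion.map_conj_le_of_le_normalizer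
    rintro _ ⟨w, hw, rfl⟩
    exact hk w hw
  obtain ⟨n, hn⟩ := hst W₁ (hW.to_le hW₁W) x (hnorm x hxW₁) hquad k₁ (hnorm k₁ hk₁W₁)
    ((x : G) * (k₁ * x * (k₁ : G)⁻¹)) (mul_mem (subset_closure (by simp)) (subset_closure (by simp)))
  set y : K := x * (k₁ * x * k₁⁻¹) with hy
  have hyW : ((y : G)) ^ p ^ n ∈ centralizer (W₁ : Set G) := hn
  have hfU : ∀ d (hd : d ∈ U), f ⟨d, hUW hd⟩ = 1 := by
    intro d hd
    have h1 := hfm z ⟨d, hUW hd⟩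
    have h2 : (⟨_, hmem z ⟨d, hUW hd⟩⟩ : W) = ⟨d, hUW hd⟩ := by
      apply Subtype.ext
      change (z : G) * d * (z : G)⁻¹ = d
      rw [(hzU d hd).eq, mul_inv_cancel_right]
    rw [h2, hφz] at h1
    have h3 : Multiplicative.toAdd (f ⟨d, hUW hd⟩) = -Multiplicative.toAdd (f ⟨d, hUW hd⟩) := by
      conv_lhs => rw [h1]
      rw [toAdd_ofAdd]
      change ((-1 : SpecialLinearGroup (Fin 2) (ZMod p)) : Matrix (Fin 2) (Fin 2) (ZMod p)) *ᵥ _ = _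
      rw [Matrix.SpecialLinearGroup.coe_neg, Matrix.SpecialLinearGroup.coe_one, Matrix.neg_mulVec,
        Matrix.one_mulVec]
    apply Multiplicative.toAdd.injective
    rw [toAdd_one]
    funext i
    have h4 := congrFun h3 i
    rw [Pi.neg_apply, eq_neg_iff_add_eq_zero, ← two_mul] at h4
    have h5 : (2 : ZMod p) ≠ 0 := by
      intro h
      have h6 : ((2 : ℕ) : ZMod p) = 0 := by exact_mod_cast h
      rw [ZMod.natCast_eq_zero_iff] at h6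
      exact hp2 ((Nat.prime_dvd_prime_iff_eq hpf.out Nat.prime_two).1 h6)
    exact (mul_eq_zero.1 h4).resolve_left h5
  have hφy : φ y ^ p ^ n = 1 := by
    rw [← map_pow]
    apply mat_injective
    apply Matrix.ext_of_mulVec_single
    intro i
    rw [mat_one, Matrix.one_mulVec]
    obtain ⟨v, hv⟩ := hf (Multiplicative.ofAdd (Pi.single i 1))
    obtain ⟨d, hd, hvd⟩ := hC2 v v.2
    set w : W := ⟨v * d⁻¹, hW₁W hvd⟩ with hw
    have hwf : f w = Multiplicative.ofAdd (Pi.single i 1) := by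
      have e1 : w = v * (⟨d, hUW hd⟩ : W)⁻¹ := rfl
      rw [e1, map_mul, map_inv, hfU d hd, inv_one, mul_one, hv]
    have h1 := hfm (y ^ p ^ n) w
    have h2 : (⟨_, hmem (y ^ p ^ n) w⟩ : W) = w := by
      apply Subtype.ext
      change ((y : G)) ^ p ^ n * w * (((y : G)) ^ p ^ n)⁻¹ = w
      rw [mul_inv_eq_iff_eq_mul]
      exact (mem_centralizer_iff.1 hyW w hvd).symm
    rw [h2, hwf, toAdd_ofAdd] at h1
    exact (Multiplicative.ofAdd.injective h1).symm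
  have htr := trace_eq_two (φ y) n hφy
  have h3 : φ k₁ * upp 1 * (φ k₁)⁻¹ = low (-1) := by
    rw [mul_inv_eq_iff_eq_mul, hφk₁]
    apply Subtype.ext
    rw [Matrix.SpecialLinearGroup.coe_mul, Matrix.SpecialLinearGroup.coe_mul, coe_upp, coe_low, hw₀]
    ext i j
    fin_cases i <;> fin_cases j <;> simp
  have h4 : φ y = upp 1 * low (-1) := by
    rw [hy, map_mul, map_mul, map_mul, map_inv, hφx, h3]
  rw [h4] at htr
  have h5 : (upp (1 : ZMod p) * low (-1)).1 = !![0, 1; -1, 1] := by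
    rw [Matrix.SpecialLinearGroup.coe_mul, coe_upp, coe_low]
    ext i j
    fin_cases i <;> fin_cases j <;> simp
  rw [h5] at htr
  have h6 : (1 : ZMod p) = 0 := by
    have h7 : (0 : ZMod p) + 1 = 2 := by simpa using htr
    linear_combination -h7
  exact one_ne_zero h6

end Final

end Cfsg.Agent.H461.PStab
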