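import Cfsg.Agent.H461.PStab.Ctrl
import Cfsg.Agent.H461.PStab.Normal
import Cfsg.Agent.H181.OctMain
import Cfsg.Agent.H37.Stable

/-!
# Normalizer `p`-stability and `Qd(p)` in simple groups (helper461, S3837), from the theorem of Flores–Foote

`strongly_closed`: in a normalizer-`p`-stable group, `p` odd, `Z(J(S))` is strongly closed in `S`.
`main`: with the conclusion of S5116 for `T = Z(J(S))`, `Qd(p)` is not involved.
-/

set_option autoImplicit false

namespace Cfsg.Agent.H461.PStab

open Subgroup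
open Cfsg.Agent.PLocal
open Cfsg.Agent.H96.QdTI Cfsg.Agent.PLocal.QdSection

variable {G : Type*} [Group G] [Finite G] {p : ℕ} [hpf : Fact p.Prime]

theorem strongly_closed (hp : p ≠ 2) (hst : Cfsg.IsNormalizerPStable p G) (S : Sylow p G) :
    Cfsg.IsStronglyClosed (Cfsg.centerThompsonAOf (S : Subgroup G)) (S : Subgroup G) := by
  refine ⟨ThompsonJA.centerThompsonAOf_le _, fun x hx g hg => ?_⟩
  have hA : zpowers x ≤ (S : Subgroup G) := by
    rw [zpowers_le]; exact ThompsonJA.centerThompsonAOf_le _ hx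
  have hA2 : (zpowers x).map (MulAut.conj g).toMonoidHom ≤ (S : Subgroup G) := by
    rw [MonoidHom.map_zpowers, zpowers_le]; exact hg
  obtain ⟨n, hn, c, hc, rfl⟩ := ctrl hp (Nat.card G) G le_rfl
    (Cfsg.Agent.H26.PStab.NStab.of_prelude hst) S (zpowers x) g hA hA2
  have h1 := (mem_centralizer_iff.1 hc) x (mem_zpowers x)
  have e : n * c * x * (n * c)⁻¹ = n * (c * x * c⁻¹) * n⁻¹ := by group
  rw [e, ← h1, mul_inv_cancel_right]
  exact (mem_normalizer_iff.1 hn x).1 hx

/-- `Qd(p)` is not involved in a group with abelian Sylow `p`-subgroups, `p` odd. -/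
theorem not_involves_of_comm (hp : p ≠ 2) (S : Sylow p G) (hS : IsMulCommutative (S : Subgroup G)) :
    ¬ Lib.Involves.Involves G ↥(Cfsg.qd p) := by
  rintro ⟨K, f, hf⟩
  have : Finite ↥(Cfsg.qd p) := inferInstance
  obtain ⟨R⟩ : Nonempty (Sylow p K) := inferInstance
  have hRc : ∀ a ∈ (R : Subgroup K), ∀ b ∈ (R : Subgroup K), a * b = b * a := by
    obtain ⟨S', hS'⟩ := (R.isPGroup'.map K.subtype).exists_le_sylow
    obtain ⟨z, hz⟩ := MulAction.exists_smul_eq G S' S
    have hzS : ∀ x ∈ (S' : Subgroup G), z * x * z⁻¹ ∈ (S : Subgroup G) := by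
      intro x hx
      rw [← hz]
      exact ⟨x, hx, rfl⟩
    intro a ha b hb
    have h1 := hzS a (hS' ⟨a, ha, rfl⟩)
    have h2 := hzS b (hS' ⟨b, hb, rfl⟩)
    have h3 : (z * a * z⁻¹) * (z * b * z⁻¹) = (z * b * z⁻¹) * (z * a * z⁻¹) :=
      (ThompsonJA.isMulCommutative_iff _).1 hS _ h1 _ h2
    have h4 : z * (a * b) * z⁻¹ = z * (b * a) * z⁻¹ := by
      calc z * (a * b) * z⁻¹ = (z * a * z⁻¹) * (z * b * z⁻¹) := by group
        _ = (z * b * z⁻¹) * (z * a * z⁻¹) := h3
        _ = _ := by group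
    exact Subtype.ext (mul_left_cancel (mul_right_cancel h4))
  set P := R.mapSurjective hf with hP
  have hPc : ∀ a ∈ (P : Subgroup ↥(Cfsg.qd p)), ∀ b ∈ (P : Subgroup ↥(Cfsg.qd p)), a * b = b * a := by
    rintro _ ⟨a, ha, rfl⟩ _ ⟨b, hb, rfl⟩
    rw [← map_mul, hRc a ha b hb, map_mul]
  have hTP : T p ≤ (P : Subgroup ↥(Cfsg.qd p)) :=
    (Lib.Cores.le_pCore (T_normal p) (T_pgroup p)).trans (Lib.Cores.pCore_le_sylow P)
  have hPT : (P : Subgroup ↥(Cfsg.qd p)) ≤ T p := by
    refine le_trans ?_ (Cfsg.Agent.H37.QdK.centralizer_T_le p)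
    intro x hx
    rw [mem_centralizer_iff]
    intro t ht
    exact hPc t (hTP ht) x hx
  apply sylow_not_normal hp P
  rw [le_antisymm hPT hTP]
  exact T_normal p

/-- An abelian subgroup `D` of index 3 and order at least 81 in a nonabelian `S` with centre of order 3 is `Z(J(S))`. -/
theorem card_centerThompson {S D : Subgroup G} (hDS : D ≤ S) (hD : ∀ a ∈ D, ∀ b ∈ D, a * b = b * a)
    (hcard : Nat.card S = 3 * Nat.card D) (h81 : 81 ≤ Nat.card D)
    (hZ : Nat.card (S ⊓ centralizer (S : Set G) : Subgroup G) = 3) : Nat.card (Cfsg.centerThompsonAOf S) ≠ 3 := by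
  have hDc : IsMulCommutative D := (ThompsonJA.isMulCommutative_iff _).2 hD
  have key : ∀ E : Subgroup G, E ≤ S → IsMulCommutative E → Nat.card D ≤ Nat.card E → E = D := by
    intro E hES hEc hle
    by_contra hne
    have hE := (ThompsonJA.isMulCommutative_iff _).1 hEc
    have hsup : D ⊔ E = S := by
      have h1 : D < D ⊔ E := by
        refine lt_of_le_of_ne le_sup_left fun h => hne ?_
        have h2 : E ≤ D := by rw [h]; exact le_sup_right
        exact Subgroup.eq_of_le_of_card_ge h2 hle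
      have h2 : D ⊔ E ≤ S := sup_le hDS hES
      obtain ⟨a, ha⟩ := Subgroup.card_dvd_of_le h1.le
      obtain ⟨b, hb⟩ := Subgroup.card_dvd_of_le h2
      have h3 : 0 < Nat.card D := Nat.card_pos
      have h4 : a * b = 3 := by
        rw [hcard, ha, mul_assoc, mul_comm] at hb
        exact (Nat.eq_of_mul_eq_mul_left h3 hb).symm
      have h5 : a ≠ 1 := by
        rintro rfl
        rw [mul_one] at ha
        exact h1.ne (Subgroup.eq_of_le_of_card_ge h1.le ha.le)
      have h6 : a = 3 := by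
        rcases (Nat.dvd_prime Nat.prime_three).1 (Dvd.intro _ h4) with h | h
        · exact absurd h h5
        · exact h
      refine Subgroup.eq_of_le_of_card_ge h2 ?_
      rw [ha, h6, hcard, mul_comm]
    have hZle : D ⊓ E ≤ S ⊓ centralizer (S : Set G) := by
      refine le_inf (inf_le_left.trans hDS) ?_
      rw [← hsup, Subgroup.le_centralizer_iff]
      refine sup_le ?_ ?_
      · intro x hx
        rw [mem_centralizer_iff]
        intro y hy
        exact hD y hy.1 x hx
      · intro x hx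
        rw [mem_centralizer_iff]
        intro y hy
        exact hE y hy.2 x hx
    have h1 : Nat.card (D ⊓ E : Subgroup G) ≤ 3 := by
      rw [← hZ]; exact Subgroup.card_le_of_le hZle
    have h2 : Nat.card (D ⊓ E : Subgroup G) * (D ⊓ E).relIndex E = Nat.card E :=
      Cfsg.Agent.Walter.GlaubermanFusion.card_mul_relIndex_of_le inf_le_right
    have h3 : (D ⊓ E).relIndex E ≤ 3 := by
      rw [inf_relIndex_right]
      have h4 : D.relIndex E ≤ D.relIndex S := by
        exact Subgroup.relIndex_le_of_le_right hES (Subgroup.index_ne_zero_of_finite)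
      have h5 : Nat.card D * D.relIndex S = Nat.card S := Cfsg.Agent.Walter.GlaubermanFusion.card_mul_relIndex_of_le hDS
      rw [hcard, mul_comm] at h5
      have h6 : D.relIndex S = 3 := Nat.eq_of_mul_eq_mul_right (Nat.card_pos (α := D)) h5
      omega
    have h4 : Nat.card (D ⊓ E : Subgroup G) * (D ⊓ E).relIndex E ≤ 3 * 3 := Nat.mul_le_mul h1 h3
    omega
  have hmem : D ∈ ThompsonJA.maxAbelianIn S := by
    refine ThompsonJA.mem_maxAbelianIn.2 ⟨hDS, hDc, fun B hB hBc => ?_⟩
    by_contra h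
    have h1 := key B hB hBc (by omega)
    rw [h1] at h
    exact h le_rfl
  have hJ : Cfsg.thompsonSubgroupAOf S = D := by
    rw [ThompsonJA.thompsonSubgroupAOf_eq_sSup]
    apply le_antisymm
    · refine sSup_le fun B hB => ?_
      rw [ThompsonJA.mem_maxAbelianIn] at hB
      exact (key B hB.1 hB.2.1 (hB.2.2 D hDS hDc)).le
    · exact le_sSup hmem
  have hZJ : Cfsg.centerThompsonAOf S = D := by
    rw [Cfsg.centerThompsonAOf, hJ]
    refine inf_eq_left.2 fun x hx => ?_
    rw [mem_centralizer_iff]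
    intro y hy
    exact hD y hy x hx
  rw [hZJ]
  omega

/-- **`Qd(p)` is not involved in a simple normalizer-`p`-stable group**, `p` odd, given the theorem of Flores–Foote
(the conclusion of S5116). -/
theorem main (hp : p ≠ 2) (hst : Cfsg.IsNormalizerPStable p G)
    (hFF : ∀ (S : Sylow p G) (T : Subgroup G), T ≠ ⊥ → T < (S : Subgroup G) → Cfsg.IsStronglyClosed T (S : Subgroup G) →
      (Cfsg.groupFusionSystem (S : Subgroup G)).IsNormal S ∨ (p = 3 ∧ (∃ (F : Type) (_ : Field F) (_ : Fintype F),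
        (Fintype.card F % 9 = 1 ∨ Fintype.card F % 9 = 8) ∧ Nonempty (G ≃* ↥(Cfsg.Lie.G2 F))) ∧
        T = (S : Subgroup G) ⊓ Subgroup.centralizer ((S : Subgroup G) : Set G) ∧ Nat.card T = 3)) :
    ¬ Lib.Involves.Involves G ↥(Cfsg.qd p) := by
  obtain ⟨S⟩ : Nonempty (Sylow p G) := inferInstance
  by_cases hS : IsMulCommutative (S : Subgroup G)
  · exact not_involves_of_comm hp S hS
  have hS1 : (S : Subgroup G) ≠ ⊥ := by
    intro h
    apply hS
    rw [ThompsonJA.isMulCommutative_iff]
    intro x hx y hy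
    rw [h, mem_bot] at hx hy
    rw [hx, hy]
  have hT := strongly_closed hp hst S
  have hTc := ThompsonJA.isMulCommutative_centerThompsonAOf (S : Subgroup G)
  have hTS : Cfsg.centerThompsonAOf (S : Subgroup G) < (S : Subgroup G) := by
    refine lt_of_le_of_ne hT.1 fun h => hS ?_
    rw [← h]; exact hTc
  rcases hFF S _ (ThompsonJA.centerThompsonAOf_ne_bot _ S.isPGroup' hS1) hTS hT with h | ⟨rfl, ⟨F, _, _, h9, ⟨e⟩⟩, h2, h3⟩
  · exact not_involves_of_isNormal hp S h
  · exfalso
    have hF3 : (3 : F) ≠ 0 := by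
      intro h
      have h4 : ((3 : ℕ) : F) = 0 := by exact_mod_cast h
      have h5 : CharP F 3 := by
        have := (CharP.charP_iff_prime_eq_zero Nat.prime_three).2 h4
        exact this
      obtain ⟨n, -, hn⟩ := FiniteField.card F 3
      rw [hn] at h9
      have h6 : 3 ∣ 3 ^ (n : ℕ) := dvd_pow_self 3 n.ne_zero
      omega
    have hq : 9 ∣ Nat.card F ^ 2 - 1 := by
      rw [Nat.card_eq_fintype_card]
      have h4 : (Fintype.card F) ^ 2 % 9 = 1 := by
        rw [Nat.pow_mod]
        rcases h9 with h | h <;> rw [h]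
      have h5 : 1 ≤ (Fintype.card F) ^ 2 := Nat.one_le_pow _ _ Fintype.card_pos
      omega
    obtain ⟨D, hD1, hD2, hD3, hD4⟩ := Cfsg.Agent.H181.OctHerm.exists_abelian hF3 e S
    exact card_centerThompson hD1 hD2 hD3 (hD4 hq) (Cfsg.Agent.H181.OctHerm.card_center hF3 e S) h3

/-- The other direction. -/
theorem stable_of_not_involves {G : Type*} [Group G] [Finite G] (hp : p ≠ 2)
    (h : ¬ Cfsg.Involves ↥(Cfsg.qd p) G) : Cfsg.IsNormalizerPStable p G :=
  H37.Stable.isNormalizerPStable_of_qdFree hp fun h' => h (Lib.Involves.involves_iff.1 h')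

end Cfsg.Agent.H461.PStab
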